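import Mathlib.CategoryTheory.Functor.KanExtension.Adjunction
import Mathlib.CategoryTheory.Adjunction.FullyFaithful
import Mathlib.CategoryTheory.Limits.Types.Colimits
import Mathlib.CategoryTheory.Limits.Types.Pullbacks
import Mathlib.CategoryTheory.Comma.Over.Basic
import Mathlib.CategoryTheory.Limits.Shapes.Pullback.IsPullback.Basic

/-! # Left Kan extensions along functors fully faithful on slices -/

set_option autoImplicit false
set_option linter.all false
set_option backward.isDefEq.respectTransparency false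
set_option backward.defeqAttrib.useBackward true

noncomputable section

universe u

open CategoryTheory CategoryTheory.Limits Opposite

namespace Groth.Agent.LanSlice

variable {C : Type u} [SmallCategory C] {C' : Type u} [SmallCategory C'] (u' : C ⥤ C') [u'.Faithful]

open Classical in
/-- value on a representative -/
def val {Z : C} (H : Cᵒᵖ ⥤ Type u) (W : Cᵒᵖ) (g : u'.obj Z ⟶ u'.obj W.unop) (x : H.obj W) :
    Option (H.obj (op Z)) :=
  if h : ∃ k, u'.map k = g then some (H.map (h.choose).op x) else none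

lemma val_map {Z : C} (H : Cᵒᵖ ⥤ Type u) (W : Cᵒᵖ) (k : Z ⟶ W.unop) (x : H.obj W) :
    val u' H W (u'.map k) x = some (H.map k.op x) := by
  have h : ∃ k', u'.map k' = u'.map k := ⟨k, rfl⟩
  rw [val, dif_pos h, u'.map_injective h.choose_spec]

variable (hu : ∀ X : C, (Over.post (X := X) u').Full)

include hu in
lemma val_comp {Z : C} (H : Cᵒᵖ ⥤ Type u) {W W' : Cᵒᵖ} (φ : W ⟶ W') (g' : u'.obj Z ⟶ u'.obj W'.unop)
    (x : H.obj W) : val u' H W' g' (H.map φ x) = val u' H W (g' ≫ u'.map φ.unop) x := by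
  by_cases h : ∃ k', u'.map k' = g'
  · obtain ⟨k', rfl⟩ := h
    rw [← u'.map_comp, val_map, val_map, op_comp, Functor.map_comp_apply]
    rfl
  · rw [val, dif_neg h, val, dif_neg]
    rintro ⟨k, hk⟩
    haveI := hu W.unop
    let m : (Over.post u').obj (Over.mk k) ⟶ (Over.post u').obj (Over.mk φ.unop) := Over.homMk g' hk.symm
    exact h ⟨((Over.post u').preimage m).left, congrArg CommaMorphism.left ((Over.post u').map_preimage m)⟩

/-- the cocone of values -/
def valCocone (Z : C) (H : Cᵒᵖ ⥤ Type u) :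
    Cocone (CostructuredArrow.proj u'.op (op (u'.obj Z)) ⋙ H) where
  pt := Option (H.obj (op Z))
  ι :=
    { app := fun a => TypeCat.ofHom (fun x => val u' H a.left a.hom.unop x)
      naturality := fun a b φ => by
        ext x
        show val u' H b.left b.hom.unop (H.map φ.left x) = val u' H a.left a.hom.unop x
        rw [val_comp u' hu]
        exact congrArg (fun t => val u' H a.left t x) (congrArg Quiver.Hom.unop (CostructuredArrow.w φ)) }

/-- pointwise colimit -/
def isColim (H : Cᵒᵖ ⥤ Type u) (Z : C) :=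
  u'.op.isPointwiseLeftKanExtensionLeftKanExtensionUnit H (op (u'.obj Z))

/-- the invariant -/
def Φ (H : Cᵒᵖ ⥤ Type u) (Z : C) : (u'.op.lan.obj H).obj (op (u'.obj Z)) → Option (H.obj (op Z)) :=
  fun q => (isColim u' H Z).desc (valCocone u' hu Z H) q

lemma exists_rep (H : Cᵒᵖ ⥤ Type u) (Z : C) (q : (u'.op.lan.obj H).obj (op (u'.obj Z))) :
    ∃ (a : CostructuredArrow u'.op (op (u'.obj Z))) (x : H.obj a.left),
      q = (u'.op.lan.obj H).map a.hom ((u'.op.lanUnit.app H).app a.left x) := by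
  obtain ⟨a, x, rfl⟩ := Types.jointly_surjective _ (isColim u' H Z) q
  exact ⟨a, x, rfl⟩

lemma Φ_rep (H : Cᵒᵖ ⥤ Type u) (Z : C) (a : CostructuredArrow u'.op (op (u'.obj Z))) (x : H.obj a.left) :
    Φ u' hu H Z ((u'.op.lan.obj H).map a.hom ((u'.op.lanUnit.app H).app a.left x)) =
      val u' H a.left a.hom.unop x :=
  ConcreteCategory.congr_hom ((isColim u' H Z).fac (valCocone u' hu Z H) a) x

lemma Φ_unit (H : Cᵒᵖ ⥤ Type u) (Z : C) (x : H.obj (op Z)) :
    Φ u' hu H Z ((u'.op.lanUnit.app H).app (op Z) x) = some x := by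
  have h := Φ_rep u' hu H Z (CostructuredArrow.mk (𝟙 (u'.op.obj (op Z)))) x
  refine (congrArg (Φ u' hu H Z) ?_).trans (h.trans ?_)
  · exact (ConcreteCategory.congr_hom ((u'.op.lan.obj H).map_id _) _).symm
  show val u' H (op Z) (𝟙 _) x = some x
  rw [← u'.map_id, val_map]
  simp

include hu in
lemma eq_unit_of_Φ (H : Cᵒᵖ ⥤ Type u) (Z : C) (q : (u'.op.lan.obj H).obj (op (u'.obj Z))) (a : H.obj (op Z))
    (h : Φ u' hu H Z q = some a) : q = (u'.op.lanUnit.app H).app (op Z) a := by
  obtain ⟨c, x, rfl⟩ := exists_rep u' H Z q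
  rw [Φ_rep] at h
  by_cases hk : ∃ k, u'.map k = c.hom.unop
  · obtain ⟨k, hk⟩ := hk
    rw [← hk, val_map] at h
    obtain rfl := Option.some.inj h
    refine Eq.trans ?_ (NatTrans.naturality_apply (u'.op.lanUnit.app H) k.op x).symm
    exact congrArg (fun t => (u'.op.lan.obj H).map t ((u'.op.lanUnit.app H).app c.left x))
      (show c.hom = u'.op.map k.op from (congrArg Quiver.Hom.op hk).symm)
  · rw [val, dif_neg hk] at h
    cases h

include hu in
lemma Φ_naturality {H K : Cᵒᵖ ⥤ Type u} (α : H ⟶ K) (Z : C) (q : (u'.op.lan.obj H).obj (op (u'.obj Z))) :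
    Φ u' hu K Z ((u'.op.lan.map α).app _ q) = (Φ u' hu H Z q).map (fun a => α.app (op Z) a) := by
  obtain ⟨c, x, rfl⟩ := exists_rep u' H Z q
  rw [NatTrans.naturality_apply (u'.op.lan.map α) c.hom]
  have h1 : (u'.op.lan.map α).app (u'.op.obj c.left) ((u'.op.lanUnit.app H).app c.left x) =
      (u'.op.lanUnit.app K).app c.left (α.app c.left x) :=
    (ConcreteCategory.congr_hom (NatTrans.congr_app (u'.op.lanUnit.naturality α) c.left) x).symm
  rw [h1, Φ_rep, Φ_rep]
  by_cases hk : ∃ k, u'.map k = c.hom.unop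
  · obtain ⟨k, hk⟩ := hk
    rw [← hk, val_map, val_map, Option.map_some, NatTrans.naturality_apply]
  · rw [val, dif_neg hk, val, dif_neg hk]
    rfl

include hu in
theorem main : (u'.op.lan : (Cᵒᵖ ⥤ Type u) ⥤ (C'ᵒᵖ ⥤ Type u)).Faithful ∧
    (∀ H : Cᵒᵖ ⥤ Type u, Mono ((u'.op.lanAdjunction (Type u)).unit.app H)) ∧
    ∀ (H K : Cᵒᵖ ⥤ Type u) (α : H ⟶ K),
      IsPullback ((u'.op.lanAdjunction (Type u)).unit.app H) α
        (((Functor.whiskeringLeft Cᵒᵖ C'ᵒᵖ (Type u)).obj u'.op).map (u'.op.lan.map α))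
        ((u'.op.lanAdjunction (Type u)).unit.app K) := by
  rw [Functor.lanAdjunction_unit]
  have hinj : ∀ (H : Cᵒᵖ ⥤ Type u) (Z : C), Function.Injective ((u'.op.lanUnit.app H).app (op Z)) := by
    intro H Z a b hab
    have := congrArg (Φ u' hu H Z) hab
    rw [Φ_unit, Φ_unit] at this
    exact Option.some.inj this
  have hmono : ∀ H : Cᵒᵖ ⥤ Type u, Mono (u'.op.lanUnit.app H) := fun H => by
    haveI : ∀ Z, Mono ((u'.op.lanUnit.app H).app Z) := fun Z => (mono_iff_injective _).2 (hinj H Z.unop)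
    exact NatTrans.mono_of_mono_app _
  refine ⟨?_, hmono, fun H K α => ?_⟩
  · haveI : ∀ X, Mono ((u'.op.lanAdjunction (Type u)).unit.app X) := by
      rw [Functor.lanAdjunction_unit]; exact hmono
    exact (u'.op.lanAdjunction (Type u)).faithful_L_of_mono_unit_app
  · apply IsPullback.of_forall_isPullback_app
    intro Z
    rw [Types.isPullback_iff]
    refine ⟨NatTrans.congr_app ((u'.op.lanUnit.naturality α).symm) Z, fun a b h => hinj H Z.unop h.1, fun q b h => ?_⟩
    have h1 := Φ_naturality u' hu α Z.unop q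
    rw [show (u'.op.lan.map α).app (op (u'.obj Z.unop)) q = (u'.op.lanUnit.app K).app (op Z.unop) b from h,
      Φ_unit] at h1
    obtain ⟨a, ha, hab⟩ := Option.map_eq_some_iff.1 h1.symm
    exact ⟨a, (eq_unit_of_Φ u' hu H Z.unop q a ha).symm, hab⟩

end Groth.Agent.LanSlice
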