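import Mathlib.CategoryTheory.Functor.KanExtension.Adjunction
import Mathlib.CategoryTheory.Limits.Indization.IndObject
import Mathlib.CategoryTheory.Limits.Types.Colimits

/-! # Left Kan extensions on ind-objects -/

set_option autoImplicit false
set_option linter.all false
set_option backward.isDefEq.respectTransparency false
set_option backward.defeqAttrib.useBackward true

noncomputable section

universe u

open CategoryTheory CategoryTheory.Limits Opposite

namespace Groth.Agent.LanSlice

variable {C : Type u} [SmallCategory C] {C' : Type u} [SmallCategory C'] (u' : C ⥤ C')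

/-- `u_! (y X) ≅ y (u X)` -/
def lanYoneda (X : C) : u'.op.lan.obj (yoneda.obj X) ≅ yoneda.obj (u'.obj X) where
  hom := ((u'.op.lanAdjunction (Type u)).homEquiv _ _).symm (yonedaEquiv.symm (𝟙 (u'.obj X) : (yoneda.obj (u'.obj X)).obj (op (u'.obj X))))
  inv := yonedaEquiv.symm (show (u'.op.lan.obj (yoneda.obj X)).obj (op (u'.obj X)) from ((u'.op.lanAdjunction (Type u)).unit.app (yoneda.obj X)).app (op X) (𝟙 X))
  hom_inv_id := by
    apply ((u'.op.lanAdjunction (Type u)).homEquiv _ _).injective
    rw [Adjunction.homEquiv_naturality_right, Equiv.apply_symm_apply, Adjunction.homEquiv_id]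
    apply yonedaEquiv.injective
    simp [yonedaEquiv, yonedaEquiv_apply]
  inv_hom_id := by
    apply yonedaEquiv.injective
    have h := congrArg yonedaEquiv (((u'.op.lanAdjunction (Type u)).homEquiv _ _).apply_symm_apply
      (yonedaEquiv.symm (𝟙 (u'.obj X) : (yoneda.obj (u'.obj X)).obj (op (u'.obj X))) :
        yoneda.obj X ⟶ ((Functor.whiskeringLeft Cᵒᵖ C'ᵒᵖ (Type u)).obj u'.op).obj (yoneda.obj (u'.obj X))))
    rw [Adjunction.homEquiv_unit, yonedaEquiv_comp, Equiv.apply_symm_apply] at h
    rw [yonedaEquiv_comp, Equiv.apply_symm_apply]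
    exact h.trans (show 𝟙 (u'.obj X) = yonedaEquiv (𝟙 (yoneda.obj (u'.obj X))) from rfl)

lemma lan_map_yoneda {X Y : C} (f : X ⟶ Y) :
    u'.op.lan.map (yoneda.map f) ≫ (lanYoneda u' Y).hom = (lanYoneda u' X).hom ≫ yoneda.map (u'.map f) := by
  apply ((u'.op.lanAdjunction (Type u)).homEquiv _ _).injective
  rw [Adjunction.homEquiv_naturality_left, Adjunction.homEquiv_naturality_right]
  simp only [lanYoneda, Equiv.apply_symm_apply]
  ext Z g
  simp [yonedaEquiv]

lemma isFiltered_pullback [u'.Full] [u'.Faithful]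
    (hr : ∀ X' : C', ∃ (X : C) (i : X' ⟶ u'.obj X) (r : u'.obj X ⟶ X'), i ≫ r = 𝟙 X')
    (G : C'ᵒᵖ ⥤ Type u) (hG : IsIndObject G) : IsIndObject (u'.op ⋙ G) := by
  haveI := hG.isFiltered
  rw [isIndObject_iff]
  refine ⟨?_, FinallySmall.mk' (𝟭 (CostructuredArrow yoneda (u'.op ⋙ G)))⟩
  let F := u'.op ⋙ G
  let el : ∀ a : CostructuredArrow yoneda F, G.obj (op (u'.obj a.left)) := fun a => (yonedaEquiv (F := F)) a.hom
  let toG : CostructuredArrow yoneda F → CostructuredArrow yoneda G := fun a =>
    CostructuredArrow.mk (yonedaEquiv.symm (el a) : yoneda.obj (u'.obj a.left) ⟶ G)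
  have mkHom : ∀ (a b : CostructuredArrow yoneda F) (f : a.left ⟶ b.left),
      G.map (u'.map f).op (el b) = el a → Nonempty (a ⟶ b) := fun a b f h =>
    ⟨CostructuredArrow.homMk f (yonedaEquiv.injective ((yonedaEquiv_naturality b.hom f).symm.trans h))⟩
  have key : ∀ c : CostructuredArrow yoneda G, ∃ (a : CostructuredArrow yoneda F) (i : c.left ⟶ u'.obj a.left),
      G.map i.op (el a) = yonedaEquiv c.hom := by
    intro c
    obtain ⟨X, i, r, hir⟩ := hr c.left
    refine ⟨CostructuredArrow.mk (yonedaEquiv.symm (G.map r.op (yonedaEquiv c.hom) : F.obj (op X))), i, ?_⟩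
    simp only [el, CostructuredArrow.mk_hom_eq_self, CostructuredArrow.mk_left, Equiv.apply_symm_apply]
    rw [← ConcreteCategory.comp_apply, ← G.map_comp, ← op_comp, hir, op_id, G.map_id]
    rfl
  haveI : Nonempty (CostructuredArrow yoneda F) := ⟨(key (IsFiltered.nonempty.some)).choose⟩
  haveI : IsFilteredOrEmpty (CostructuredArrow yoneda F) := by
    constructor
    · intro a b
      let c := IsFiltered.max (toG a) (toG b)
      obtain ⟨d, i, hd⟩ := key c
      have h : ∀ (e : CostructuredArrow yoneda F) (f : toG e ⟶ c), Nonempty (e ⟶ d) := fun e f => by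
        refine mkHom e d (u'.preimage (f.left ≫ i)) ?_
        rw [u'.map_preimage, op_comp, G.map_comp, ConcreteCategory.comp_apply, hd, yonedaEquiv_naturality,
          CostructuredArrow.w f]
        exact Equiv.apply_symm_apply _ _
      exact ⟨d, (h a (IsFiltered.leftToMax _ _)).some, (h b (IsFiltered.rightToMax _ _)).some, trivial⟩
    · intro a b f g
      have lift : ∀ f : a ⟶ b, ∃ f' : toG a ⟶ toG b, f'.left = u'.map f.left := fun f => by
        refine ⟨CostructuredArrow.homMk (u'.map f.left) (yonedaEquiv.injective ?_), rfl⟩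
        show yonedaEquiv (yoneda.map (u'.map f.left) ≫ (toG b).hom) = yonedaEquiv (toG a).hom
        rw [← yonedaEquiv_naturality]
        simp only [toG, CostructuredArrow.mk_hom_eq_self, Equiv.apply_symm_apply]
        erw [Equiv.apply_symm_apply]
        show F.map f.left.op (el b) = el a
        exact (yonedaEquiv_naturality b.hom f.left).trans (congrArg yonedaEquiv (CostructuredArrow.w f))
      obtain ⟨f', hf⟩ := lift f
      obtain ⟨g', hg⟩ := lift g
      obtain ⟨d, i, hd⟩ := key (IsFiltered.coeq f' g')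
      let j := (IsFiltered.coeqHom f' g').left ≫ i
      have hj : G.map j.op (el d) = el b := by
        rw [op_comp, G.map_comp, ConcreteCategory.comp_apply, hd, yonedaEquiv_naturality, CostructuredArrow.w]
        exact Equiv.apply_symm_apply _ _
      let h : b ⟶ d := CostructuredArrow.homMk (u'.preimage j) (yonedaEquiv.injective
        ((yonedaEquiv_naturality d.hom _).symm.trans (by
          show G.map (u'.map (u'.preimage j)).op _ = _
          rw [u'.map_preimage]; exact hj)))
      refine ⟨d, h, CostructuredArrow.hom_ext _ _ (u'.map_injective ?_)⟩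
      show u'.map (f.left ≫ u'.preimage j) = u'.map (g.left ≫ u'.preimage j)
      rw [u'.map_comp, u'.map_comp, u'.map_preimage, ← hf, ← hg]
      simp only [j, ← Category.assoc]
      exact congrArg (fun t => t.left ≫ i) (IsFiltered.coeq_condition f' g')
  exact ⟨⟩

theorem ind_iff :
    ((∀ (F G : Cᵒᵖ ⥤ Type u), IsIndObject F → IsIndObject G →
        Function.Bijective (fun φ : F ⟶ G => (u'.op.lan : (Cᵒᵖ ⥤ Type u) ⥤ (C'ᵒᵖ ⥤ Type u)).map φ)) ∧
      (∀ G' : C'ᵒᵖ ⥤ Type u, IsIndObject G' →
        ∃ F : Cᵒᵖ ⥤ Type u, IsIndObject F ∧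
          Nonempty ((u'.op.lan : (Cᵒᵖ ⥤ Type u) ⥤ (C'ᵒᵖ ⥤ Type u)).obj F ≅ G'))) ↔
    ((u'.Full ∧ u'.Faithful) ∧
      ∀ X' : C', ∃ (X : C) (i : X' ⟶ u'.obj X) (r : u'.obj X ⟶ X'), i ≫ r = 𝟙 X') := by
  constructor
  · rintro ⟨h1, h2⟩
    refine ⟨⟨⟨fun {X Y} g => ?_⟩, ⟨fun {X Y} a b hab => ?_⟩⟩, fun X' => ?_⟩
    · obtain ⟨φ, hφ⟩ := (h1 _ _ (isIndObject_yoneda X) (isIndObject_yoneda Y)).2
        ((lanYoneda u' X).hom ≫ yoneda.map g ≫ (lanYoneda u' Y).inv)
      refine ⟨Yoneda.fullyFaithful.preimage φ, Yoneda.fullyFaithful.map_injective ?_⟩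
      rw [← cancel_epi (lanYoneda u' X).hom, ← lan_map_yoneda, Functor.FullyFaithful.map_preimage]
      rw [show u'.op.lan.map φ = _ from hφ]
      simp
    · apply Yoneda.fullyFaithful.map_injective
      apply (h1 _ _ (isIndObject_yoneda X) (isIndObject_yoneda Y)).1
      show u'.op.lan.map (yoneda.map a) = u'.op.lan.map (yoneda.map b)
      rw [← cancel_mono (lanYoneda u' Y).hom, lan_map_yoneda, lan_map_yoneda, hab]
    · obtain ⟨F, -, ⟨e⟩⟩ := h2 _ (isIndObject_yoneda X')
      obtain ⟨a, x, hx⟩ := Types.jointly_surjective _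
        (u'.op.isPointwiseLeftKanExtensionLeftKanExtensionUnit F (op X')) (e.inv.app (op X') (𝟙 X'))
      refine ⟨a.left.unop, a.hom.unop, e.hom.app (u'.op.obj a.left) ((u'.op.lanUnit.app F).app a.left x), ?_⟩
      have h3 := (NatTrans.naturality_apply e.hom a.hom ((u'.op.lanUnit.app F).app a.left x)).symm.trans
        ((congrArg (e.hom.app (op X')) hx).trans
          (ConcreteCategory.congr_hom (e.inv_hom_id_app (op X')) (𝟙 X')))
      exact h3
  · rintro ⟨⟨_, _⟩, hr⟩
    haveI : IsIso (u'.op.lanAdjunction (Type u)).unit := by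
      rw [Functor.lanAdjunction_unit]; infer_instance
    refine ⟨fun F G _ _ =>
      ((u'.op.lanAdjunction (Type u)).fullyFaithfulLOfIsIsoUnit.map_bijective F G), fun G hG => ?_⟩
    refine ⟨u'.op ⋙ G, isFiltered_pullback u' hr G hG, ?_⟩
    let ε := (u'.op.lanAdjunction (Type u)).counit.app G
    have hX : ∀ X : C, Function.Bijective (ε.app (op (u'.obj X))) := fun X => by
      have t : ((u'.op.lanAdjunction (Type u)).unit.app (u'.op ⋙ G)).app (op X) ≫ ε.app (op (u'.obj X)) = 𝟙 _ :=
        NatTrans.congr_app ((u'.op.lanAdjunction (Type u)).right_triangle_components G) (op X)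
      haveI : IsIso (ε.app (op (u'.obj X))) := by
        rw [(IsIso.eq_inv_of_hom_inv_id t)]; infer_instance
      exact (isIso_iff_bijective _).1 inferInstance
    haveI : ∀ X', IsIso (ε.app X') := fun X' => by
      obtain ⟨X, i, r, hir⟩ := hr X'.unop
      rw [isIso_iff_bijective]
      have hid : ∀ (H : C'ᵒᵖ ⥤ Type u) (z : H.obj X'), H.map i.op (H.map r.op z) = z := fun H z => by
        rw [← ConcreteCategory.comp_apply, ← H.map_comp, ← op_comp, hir, op_id, H.map_id]
        rfl
      constructor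
      · intro p q hpq
        rw [← hid _ p, ← hid _ q]
        refine congrArg _ ((hX X).1 ?_)
        rw [NatTrans.naturality_apply ε r.op, NatTrans.naturality_apply ε r.op, hpq]
      · intro z
        obtain ⟨p, hp⟩ := (hX X).2 (G.map r.op z)
        exact ⟨_, (NatTrans.naturality_apply ε i.op p).trans ((congrArg _ hp).trans (hid G z))⟩
    haveI : IsIso ε := NatIso.isIso_of_isIso_app ε
    exact ⟨asIso ε⟩

end Groth.Agent.LanSlice
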