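import Mathlib.CategoryTheory.Sites.Canonical
import Mathlib.CategoryTheory.Adjunction.Reflective
import Mathlib.CategoryTheory.Limits.Types.Pullbacks
import Mathlib.CategoryTheory.Limits.Shapes.Pullback.IsPullback.Basic
import Mathlib.CategoryTheory.Limits.Shapes.Pullback.Mono
import Mathlib.CategoryTheory.Functor.EpiMono
import Mathlib.CategoryTheory.Limits.FunctorCategory.Basic
import Mathlib.CategoryTheory.Limits.Preserves.Finite
import Mathlib.CategoryTheory.Limits.Preserves.Shapes.Equalizers

/-! # The topology of a left exact reflector -/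

set_option autoImplicit false
set_option linter.all false
set_option backward.isDefEq.respectTransparency false
set_option backward.defeqAttrib.useBackward true

noncomputable section

universe u

open CategoryTheory CategoryTheory.Limits Opposite

namespace Groth.Agent.LanSlice

variable {C : Type u} [SmallCategory C] (P : ObjectProperty (Cᵒᵖ ⥤ Type u))
    [Reflective P.ι]

local notation "L" => reflector P.ι
local notation "adjP" => reflectorAdjunction P.ι

lemma isIso_L_iff {A B : Cᵒᵖ ⥤ Type u} (φ : A ⟶ B) :
    IsIso ((L).map φ) ↔ ∀ Z, P Z → Function.Bijective (fun h : B ⟶ Z => φ ≫ h) := by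
  rw [isIso_iff_coyoneda_map_bijective]
  constructor
  · intro H Z hZ
    have := ((adjP).homEquiv A ⟨Z, hZ⟩).bijective.comp ((H ⟨Z, hZ⟩).comp ((adjP).homEquiv B ⟨Z, hZ⟩).symm.bijective)
    refine Eq.mp (congrArg Function.Bijective (funext fun h => ?_)) this
    show (adjP).homEquiv A ⟨Z, hZ⟩ ((L).map φ ≫ ((adjP).homEquiv B ⟨Z, hZ⟩).symm h) = φ ≫ h
    rw [Adjunction.homEquiv_naturality_left, Equiv.apply_symm_apply]
  · intro H Z
    have := ((adjP).homEquiv A Z).symm.bijective.comp ((H Z.obj Z.property).comp ((adjP).homEquiv B Z).bijective)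
    refine Eq.mp (congrArg Function.Bijective (funext fun h => ?_)) this
    show ((adjP).homEquiv A Z).symm (φ ≫ (adjP).homEquiv B Z h) = (L).map φ ≫ h
    rw [Adjunction.homEquiv_naturality_left_symm, Equiv.symm_apply_apply]

lemma isIso_L_sieve_iff {X : C} (S : Sieve X) :
    IsIso ((L).map S.functorInclusion) ↔ ∀ Z, P Z → Presieve.IsSheafFor Z S.arrows := by
  rw [isIso_L_iff]
  refine forall_congr' fun Z => forall_congr' fun _ => ?_
  rw [Presieve.isSheafFor_iff_yonedaSheafCondition, Presieve.YonedaSheafCondition, Function.bijective_iff_existsUnique]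

/-- maps of sieves over a morphism -/
def sievePullMap {X Y : C} (S : Sieve X) (f : Y ⟶ X) : (S.pullback f).functor ⟶ S.functor where
  app Z := ↾fun g => ⟨g.1 ≫ f, g.2⟩
  naturality Z W h := by
    ext g
    exact Subtype.ext (Category.assoc _ _ _)

lemma isPullback_sieve {X Y : C} (S : Sieve X) (f : Y ⟶ X) :
    IsPullback (sievePullMap S f) (S.pullback f).functorInclusion S.functorInclusion (yoneda.map f) := by
  apply IsPullback.of_forall_isPullback_app
  intro Z
  rw [Types.isPullback_iff]
  refine ⟨rfl, fun a b h => Subtype.ext h.2, fun a b h => ?_⟩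
  have h' : a.1 = b ≫ f := h
  exact ⟨⟨b, show S.arrows (b ≫ f) from h' ▸ a.2⟩, Subtype.ext h'.symm, rfl⟩

variable [PreservesFiniteLimits (reflector P.ι)]

lemma isIso_pullback {A B A' B' : Cᵒᵖ ⥤ Type u} {fst : A' ⟶ A} {snd : A' ⟶ B'} {i : A ⟶ B} {g : B' ⟶ B}
    (h : IsPullback fst snd i g) [IsIso ((L).map i)] : IsIso ((L).map snd) :=
  IsPullback.isIso_snd_of_isIso (h.map L)

lemma stable {X Y : C} (S : Sieve X) (f : Y ⟶ X) (h : IsIso ((L).map S.functorInclusion)) :
    IsIso ((L).map (S.pullback f).functorInclusion) :=
  isIso_pullback P (isPullback_sieve S f)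

/-- the covering sieves form a topology characterising the subcategory -/
theorem exists_topology [P.IsClosedUnderIsomorphisms] :
    ∃ J : GrothendieckTopology C,
      (∀ (X : C) (S : Sieve X), S ∈ J X ↔ IsIso ((L).map S.functorInclusion)) ∧
      ∀ F : Cᵒᵖ ⥤ Type u, P F ↔ Presieve.IsSheaf J F := by
  let J := Sheaf.finestTopology {Z : Cᵒᵖ ⥤ Type u | P Z}
  have hJ : ∀ (X : C) (S : Sieve X), S ∈ J X ↔ IsIso ((L).map S.functorInclusion) := fun X S => by
    constructor
    · intro hS
      rw [isIso_L_sieve_iff]
      exact fun Z hZ => Sheaf.sheaf_for_finestTopology _ hZ S hS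
    · intro hS
      exact Sheaf.mem_finestTopology_of_forall_isSheafFor fun Z hZ Y f =>
        (isIso_L_sieve_iff P _).1 (stable P S f hS) Z hZ
  refine ⟨J, hJ, fun F => ⟨fun hF => Sheaf.sheaf_for_finestTopology _ hF, fun hF => ?_⟩⟩
  let η := (adjP).unit.app F
  have hFG : P (((L) ⋙ P.ι).obj F) := ((L).obj F).property
  have hG : Presieve.IsSheaf J (((L) ⋙ P.ι).obj F) := Sheaf.sheaf_for_finestTopology _ hFG
  have hinj : ∀ (X : C), Function.Injective (η.app (op X)) := by
    intro X a b hab
    let α := yonedaEquiv.symm a
    let β := yonedaEquiv.symm b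
    let S : Sieve X :=
      { arrows := fun Y f => F.map f.op a = F.map f.op b
        downward_closed := fun {Y Z f} hf g => by
          rw [op_comp, Functor.map_comp_apply, Functor.map_comp_apply, hf] }
    have hw : S.functorInclusion ≫ α = S.functorInclusion ≫ β := by
      ext Z g
      exact g.2
    haveI : IsIso ((L).map S.functorInclusion) := by
      let c := Fork.ofι S.functorInclusion hw
      have hc : IsLimit c := Fork.IsLimit.mk _
        (fun s => { app := fun Z => ↾fun z => ⟨s.ι.app Z z, ConcreteCategory.congr_hom (NatTrans.congr_app s.condition Z) z⟩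
                    naturality := fun Z W h => by
                      ext z
                      apply Subtype.ext
                      exact (NatTrans.naturality_apply s.ι h z) })
        (fun s => by ext Z z; rfl)
        (fun s m hm => by
          ext Z z
          apply Subtype.ext
          exact ConcreteCategory.congr_hom (NatTrans.congr_app hm Z) z)
      have hab' : α ≫ η = β ≫ η := yonedaEquiv.injective (by
        rw [yonedaEquiv_comp, yonedaEquiv_comp]; simpa [α, β] using hab)
      have hL : (L).map α = (L).map β := ((adjP).homEquiv _ _).injective (by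
        rw [Adjunction.homEquiv_unit, Adjunction.homEquiv_unit]
        exact ((adjP).unit.naturality α).symm.trans (hab'.trans ((adjP).unit.naturality β)))
      exact isIso_limit_cone_parallelPair_of_eq hL (isLimitForkMapOfIsLimit L _ hc)
    refine (hF _ ((hJ X S).2 inferInstance)).isSeparatedFor.ext fun Y f hf => hf
  have hsurj : ∀ (X : C), Function.Surjective (η.app (op X)) := by
    intro X t
    let τ := yonedaEquiv.symm t
    let S : Sieve X :=
      { arrows := fun Y f => ∃ a, η.app (op Y) a = (((L) ⋙ P.ι).obj F).map f.op t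
        downward_closed := fun {Y Z f} hf g => by
          obtain ⟨a, ha⟩ := hf
          exact ⟨F.map g.op a, by erw [NatTrans.naturality_apply η g.op]; rw [ha, op_comp, Functor.map_comp_apply]⟩ }
    let fs : S.functor ⟶ F :=
      { app := fun Z => ↾fun g => g.2.choose
        naturality := fun Z W h => by
          ext g
          apply hinj W.unop
          refine (((S.functor.map h g)).2.choose_spec).trans (Eq.symm ?_)
          refine (NatTrans.naturality_apply η h _).trans ((congrArg _ g.2.choose_spec).trans ?_)
          exact (Functor.map_comp_apply (((L) ⋙ P.ι).obj F) g.1.op h t).symm }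
    have hp : IsPullback fs S.functorInclusion η τ := by
      apply IsPullback.of_forall_isPullback_app
      intro Z
      rw [Types.isPullback_iff]
      refine ⟨?_, fun a b h => Subtype.ext h.2, fun a g h => ?_⟩
      · ext g
        exact g.2.choose_spec
      · exact ⟨⟨g, a, h⟩, hinj Z.unop ((Exists.choose_spec (⟨a, h⟩ : ∃ x, η.app Z x = _)).trans h.symm), rfl⟩
    haveI : IsIso ((L).map η) := inferInstance
    have hS : IsIso ((L).map S.functorInclusion) := isIso_pullback P hp
    obtain ⟨g, hg, -⟩ := (Presieve.isSheafFor_iff_yonedaSheafCondition.1 (hF _ ((hJ X S).2 hS))) fs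
    refine ⟨yonedaEquiv g, ?_⟩
    obtain ⟨_, -, huniq⟩ := (Presieve.isSheafFor_iff_yonedaSheafCondition.1 (hG _ ((hJ X S).2 hS))) (fs ≫ η)
    have h1 : g ≫ η = τ := (huniq (g ≫ η) (by show S.functorInclusion ≫ g ≫ η = fs ≫ η; rw [← Category.assoc, hg])).trans
      (huniq τ hp.w.symm).symm
    have h2 := congrArg yonedaEquiv h1
    rw [yonedaEquiv_comp] at h2
    exact h2.trans (Equiv.apply_symm_apply _ _)
  haveI : ∀ Z, IsIso (η.app Z) := fun Z => (isIso_iff_bijective _).2 ⟨hinj Z.unop, hsurj Z.unop⟩
  haveI : IsIso η := NatIso.isIso_of_isIso_app η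
  exact P.prop_of_iso (asIso η).symm hFG

end Groth.Agent.LanSlice
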